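import Groth.Agent.MiscA.WCSep
import Groth.Agent.Variety.K430.PDeg
import Mathlib.FieldTheory.RatFunc.IntermediateField
import Mathlib.RingTheory.Unramified.Field

/-!
# Separating elements of prescribed degree

For a function field `K` of one variable over an algebraically closed field `k`, and a transcendental element `z`,
there is a separating element `x` with `[K : k(x)] = [K : k(z)]`.
-/

set_option autoImplicit false

namespace Groth.Agent.Curves.K493.SepAlg

open Groth.Agent.MiscA.WCPlace Polynomial

universe u v

/-- `[k(t) : k(f(t))] = deg f` for `t` transcendental. -/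
theorem relfinrank_aeval {k : Type u} {K : Type v} [Field k] [Field K] [Algebra k K] (t : K) (ht : Transcendental k t)
    (f : k[X]) :
    IntermediateField.relfinrank (IntermediateField.adjoin k {aeval t f}) (IntermediateField.adjoin k {t}) =
      f.natDegree := by
  let φ : RatFunc k →ₐ[k] K := (IntermediateField.adjoin k {t}).val.comp (RatFunc.algEquivOfTranscendental t ht).toAlgHom
  have hφf : φ (algebraMap k[X] (RatFunc k) f) = aeval t f := by
    change ((RatFunc.algEquivOfTranscendental t ht (algebraMap k[X] (RatFunc k) f) : IntermediateField.adjoin k {t}) : K) = _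
    rw [RatFunc.algEquivOfTranscendental_algebraMap]
    simp
  have h1 : (⊤ : IntermediateField k (RatFunc k)).map φ = IntermediateField.adjoin k {t} := by
    rw [← AlgHom.fieldRange_eq_map]
    ext y
    rw [AlgHom.mem_fieldRange]
    constructor
    · rintro ⟨x, rfl⟩
      exact (RatFunc.algEquivOfTranscendental t ht x).2
    · intro hy
      obtain ⟨x, hx⟩ := (RatFunc.algEquivOfTranscendental t ht).surjective ⟨y, hy⟩
      exact ⟨x, congrArg Subtype.val hx⟩
  have h2 : (IntermediateField.adjoin k {algebraMap k[X] (RatFunc k) f}).map φ =
      IntermediateField.adjoin k {aeval t f} := by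
    rw [IntermediateField.adjoin_map, Set.image_singleton, hφf]
  rw [← h1, ← h2, IntermediateField.relfinrank_map_map, IntermediateField.relfinrank_top_right,
    RatFunc.finrank_eq_max_natDegree, RatFunc.num_algebraMap, RatFunc.denom_algebraMap, natDegree_one,
    max_eq_left (Nat.zero_le _)]

theorem adjoin_aeval_le {k : Type u} {K : Type v} [Field k] [Field K] [Algebra k K] (t : K) (f : k[X]) :
    IntermediateField.adjoin k {aeval t f} ≤ IntermediateField.adjoin k {t} := by
  rw [IntermediateField.adjoin_simple_le_iff]
  exact IntermediateField.algebra_adjoin_le_adjoin _ _ (aeval_mem_adjoin_singleton k t)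

/-- `[K : k(f(t))] = deg f * [K : k(t)]` for `t` transcendental. -/
theorem finrank_aeval {k : Type u} {K : Type v} [Field k] [Field K] [Algebra k K] (t : K) (ht : Transcendental k t)
    (f : k[X]) :
    Module.finrank (IntermediateField.adjoin k {aeval t f}) K =
      f.natDegree * Module.finrank (IntermediateField.adjoin k {t}) K := by
  rw [← IntermediateField.relfinrank_mul_finrank_top (adjoin_aeval_le t f), relfinrank_aeval t ht f]

theorem mem_adjoin_pow {k : Type u} {K : Type v} [Field k] [PerfectField k] [Field K] [Algebra k K] (p : ℕ)
    [Fact p.Prime] [CharP k p] [CharP K p] (x : K)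
    (hx : x ∈ IntermediateField.adjoin k (Set.range fun y : K => y ^ p)) : ∃ y : K, y ^ p = x := by
  have : ExpChar k p := .prime Fact.out
  have : ExpChar K p := .prime Fact.out
  have : PerfectRing k p := PerfectField.toPerfectRing p
  induction hx using IntermediateField.adjoin_induction with
  | mem x hx => exact hx
  | algebraMap x =>
    obtain ⟨y, hy⟩ := surjective_frobenius k p x
    refine ⟨algebraMap k K y, ?_⟩
    rw [← map_pow]
    congr 1
  | add x y _ _ hx hy =>
    obtain ⟨a, rfl⟩ := hx
    obtain ⟨b, rfl⟩ := hy
    exact ⟨a + b, add_pow_char a b p⟩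
  | inv x _ hx =>
    obtain ⟨a, rfl⟩ := hx
    exact ⟨a⁻¹, inv_pow a p⟩
  | mul x y _ _ hx hy =>
    obtain ⟨a, rfl⟩ := hx
    obtain ⟨b, rfl⟩ := hy
    exact ⟨a * b, mul_pow a b p⟩

theorem essFiniteType {k K : Type u} [Field k] [Field K] [Algebra k K] (z : K)
    (hfin : FiniteDimensional (IntermediateField.adjoin k {z}) K) : Algebra.EssFiniteType k K := by
  have h1 : Algebra.EssFiniteType k (IntermediateField.adjoin k {z}) :=
    IntermediateField.essFiniteType_iff.2 (IntermediateField.fg_adjoin_of_finite (Set.finite_singleton z))
  exact Algebra.EssFiniteType.comp k (IntermediateField.adjoin k {z}) K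

open scoped IntermediateField.algebraAdjoinAdjoin in
theorem trdeg_eq_one {k K : Type u} [Field k] [Field K] [Algebra k K] (z : K) (hz : Transcendental k z)
    (hfin : FiniteDimensional (IntermediateField.adjoin k {z}) K) : Algebra.trdeg k K = 1 := by
  have h1 : IsTranscendenceBasis k (fun _ : PUnit.{u + 1} => z) := by
    rw [isTranscendenceBasis_iff_algebraicIndependent_isAlgebraic]
    refine ⟨?_, ?_⟩
    · rw [algebraicIndependent_unique_type_iff]
      exact hz
    · rw [Set.range_const]
      exact Algebra.IsAlgebraic.trans _ (IntermediateField.adjoin k {z}) _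
  have := h1.cardinalMk_eq_trdeg
  rw [← this]
  simp

/-- In characteristic `p`, a nonseparating element is a `p`-th power. -/
theorem exists_pow_eq (k K : Type u) [Field k] [PerfectField k] [Field K] [Algebra k K] (p : ℕ)
    [hp : Fact p.Prime] [CharP k p] [CharP K p] (z : K) (hz : Transcendental k z)
    (hfin : FiniteDimensional (IntermediateField.adjoin k {z}) K)
    (hsep : ¬ Algebra.IsSeparable (IntermediateField.adjoin k {z}) K) : ∃ y : K, y ^ p = z := by
  have hess := essFiniteType z hfin
  obtain ⟨t, ht⟩ := Groth.Agent.MiscA.WCSep.exists_isSep_of_trdeg k K (trdeg_eq_one z hz hfin)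
  -- `[K : k K ^ p] = p`
  have hrk : Module.finrank (IntermediateField.adjoin k (Set.range fun y : K => y ^ p)) K = p := by
    have h1 : AlgebraicIndependent k (fun _ : Unit => t) := by
      rw [algebraicIndependent_unique_type_iff]
      exact ht.tr
    have h2 : IntermediateField.adjoin k (Set.range (fun _ : Unit => t)) = IntermediateField.adjoin k {t} := by
      rw [Set.range_const]
    have h3 : Algebra.IsSeparable (IntermediateField.adjoin k (Set.range (fun _ : Unit => t))) K := by
      rw [h2]
      exact ht.sep
    have h4 := K430.PDeg.finrank_eq p h1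
    rwa [Fintype.card_unit, pow_one] at h4
  apply mem_adjoin_pow (k := k) p
  by_contra hzE
  -- a nonzero derivation
  obtain ⟨D, hD⟩ : ∃ D : Derivation (IntermediateField.adjoin k {z}) K K, D ≠ 0 := by
    by_contra hD
    push Not at hD
    apply hsep
    rw [← Algebra.FormallyUnramified.iff_isSeparable, Algebra.formallyUnramified_iff,
      subsingleton_iff_forall_eq 0]
    intro ω
    rw [← Module.forall_dual_apply_eq_zero_iff K]
    intro l
    have h := hD (l.compDer (KaehlerDifferential.D (IntermediateField.adjoin k {z}) K))
    have h2 : l = 0 :=
      (KaehlerDifferential.linearMapEquivDerivation (IntermediateField.adjoin k {z}) K).injective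
        (by rw [map_zero]; exact h)
    rw [h2]
    rfl
  apply hD
  have hsimple := IntermediateField.isSimpleOrder_of_finrank_prime
    (IntermediateField.adjoin k (Set.range fun y : K => y ^ p)) K (by rw [hrk]; exact hp.out)
  rcases hsimple.eq_bot_or_eq_top (IntermediateField.adjoin
    (IntermediateField.adjoin k (Set.range fun y : K => y ^ p)) {z}) with h | h
  · exfalso
    apply hzE
    rw [IntermediateField.adjoin_simple_eq_bot_iff, IntermediateField.mem_bot] at h
    obtain ⟨y, hy⟩ := h
    rw [← hy]
    exact y.2
  · have h2 : IntermediateField.adjoin k ((Set.range fun y : K => y ^ p) ∪ {z}) = ⊤ := by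
      rw [← IntermediateField.adjoin_adjoin_left, h]
      rfl
    ext w
    refine K430.PDeg.derivation_eq_zero (D.restrictScalars k) ((Set.range fun y : K => y ^ p) ∪ {z}) ?_ w
      (h2 ▸ IntermediateField.mem_top)
    rintro x (⟨y, rfl⟩ | rfl)
    · exact K430.PDeg.derivation_pow p (D.restrictScalars k) y
    · exact D.map_algebraMap (⟨x, IntermediateField.mem_adjoin_simple_self k x⟩ : IntermediateField.adjoin k {x})

/-- In characteristic `p`, if `x` is separating, then so is `x ^ p + x`. -/
theorem isSep_pow_add (k K : Type u) [Field k] [IsAlgClosed k] [Field K] [Algebra k K] (p : ℕ)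
    [hp : Fact p.Prime] [CharP k p] [CharP K p] (x : K) (hx : IsSep k K x) :
    IsSep k K (aeval x (X ^ p + X : k[X])) := by
  have hdeg : (X ^ p + X : k[X]).natDegree = p := by
    rw [natDegree_add_eq_left_of_natDegree_lt]
    · exact natDegree_X_pow p
    · rw [natDegree_X_pow, natDegree_X]
      exact hp.out.one_lt
  have hle := adjoin_aeval_le x (X ^ p + X : k[X])
  refine ⟨?_, ?_, ?_⟩
  · intro h
    apply hx.tr
    refine IsAlgebraic.of_aeval (X ^ p + X : k[X]) ?_ ?_ h
    · rw [hdeg]
      exact hp.out.ne_zero
    · exact mem_nonZeroDivisors_of_ne_zero (leadingCoeff_ne_zero.2 fun h0 => by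
        rw [h0, natDegree_zero] at hdeg
        exact hp.out.ne_zero hdeg.symm)
  · have h1 := finrank_aeval x hx.tr (X ^ p + X : k[X])
    have := hx.fin
    apply FiniteDimensional.of_finrank_pos
    rw [h1, hdeg]
    exact Nat.mul_pos hp.out.pos Module.finrank_pos
  · have hres : (IntermediateField.adjoin (IntermediateField.adjoin k {aeval x (X ^ p + X : k[X])})
        {x}).restrictScalars k = IntermediateField.adjoin k {x} := by
      rw [IntermediateField.adjoin_adjoin_left]
      apply le_antisymm
      · rw [IntermediateField.adjoin_le_iff]
        rintro y (rfl | rfl)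
        · exact hle (IntermediateField.mem_adjoin_simple_self k _)
        · exact IntermediateField.mem_adjoin_simple_self k _
      · exact IntermediateField.adjoin.mono _ _ _ Set.subset_union_right
    have h1 : Algebra.IsSeparable ↥((IntermediateField.adjoin (IntermediateField.adjoin k {aeval x (X ^ p + X : k[X])})
        {x}).restrictScalars k) K := by
      rw [hres]
      exact hx.sep
    have h1' : Algebra.IsSeparable ↥(IntermediateField.adjoin (IntermediateField.adjoin k {aeval x (X ^ p + X : k[X])})
        {x}) K := h1
    have h2 : Algebra.IsSeparable (IntermediateField.adjoin k {aeval x (X ^ p + X : k[X])})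
        (IntermediateField.adjoin (IntermediateField.adjoin k {aeval x (X ^ p + X : k[X])}) {x}) := by
      rw [IntermediateField.isSeparable_adjoin_simple_iff_isSeparable]
      set F := IntermediateField.adjoin k {aeval x (X ^ p + X : k[X])} with hF
      have hmem : aeval x (X ^ p + X : k[X]) ∈ F := IntermediateField.mem_adjoin_simple_self k _
      have hcharF : CharP F p := (algebraMap F K).charP (algebraMap F K).injective p
      have hsep : (X ^ p + X - C (⟨_, hmem⟩ : F) : F[X]).Separable := by
        rw [separable_def]
        have : derivative (X ^ p + X - C (⟨_, hmem⟩ : F) : F[X]) = 1 := by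
          rw [derivative_sub, derivative_add, derivative_X_pow, derivative_X, derivative_C, CharP.cast_eq_zero]
          simp
        rw [this]
        exact isCoprime_one_right
      refine hsep.of_dvd (minpoly.dvd F x ?_)
      simp
    exact Algebra.IsSeparable.trans (IntermediateField.adjoin k {aeval x (X ^ p + X : k[X])})
      (IntermediateField.adjoin (IntermediateField.adjoin k {aeval x (X ^ p + X : k[X])}) {x}) K

/-- A function field of one variable over an algebraically closed field has separating elements of any degree
which is the degree of a transcendental element. -/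
theorem exists_isSep_finrank (k K : Type u) [Field k] [IsAlgClosed k] [Field K] [Algebra k K] (z : K)
    (hz : Transcendental k z) (hfin : FiniteDimensional (IntermediateField.adjoin k {z}) K) :
    ∃ x : K, IsSep k K x ∧ Module.finrank (IntermediateField.adjoin k {x}) K =
      Module.finrank (IntermediateField.adjoin k {z}) K := by
  obtain ⟨n, hn⟩ : ∃ n, Module.finrank (IntermediateField.adjoin k {z}) K = n := ⟨_, rfl⟩
  induction n using Nat.strong_induction_on generalizing z with
  | _ n ih =>
    by_cases hsep : Algebra.IsSeparable (IntermediateField.adjoin k {z}) K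
    · exact ⟨z, ⟨hz, hfin, hsep⟩, rfl⟩
    · obtain ⟨p, hp⟩ := CharP.exists k
      rcases CharP.char_is_prime_or_zero k p with hpp | rfl
      · have : Fact p.Prime := ⟨hpp⟩
        have : CharP K p := charP_of_injective_algebraMap (algebraMap k K).injective p
        obtain ⟨y, rfl⟩ := exists_pow_eq k K p z hz hfin hsep
        have hy : Transcendental k y := fun h => hz (h.pow p)
        have h1 := finrank_aeval y hy (X ^ p)
        rw [map_pow, aeval_X, natDegree_X_pow] at h1
        have hpos : 0 < Module.finrank (IntermediateField.adjoin k {y ^ p}) K := Module.finrank_pos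
        have hpos' : 0 < Module.finrank (IntermediateField.adjoin k {y}) K := by
          rw [h1] at hpos
          exact Nat.pos_of_mul_pos_left hpos
        have hfy : FiniteDimensional (IntermediateField.adjoin k {y}) K := FiniteDimensional.of_finrank_pos hpos'
        obtain ⟨x, hx, hxd⟩ := ih (Module.finrank (IntermediateField.adjoin k {y}) K)
          (by rw [← hn, h1]; exact lt_mul_left hpos' hpp.one_lt) y hy hfy rfl
        refine ⟨_, isSep_pow_add k K p x hx, ?_⟩
        rw [finrank_aeval x hx.tr, h1, hxd]
        congr 1
        rw [natDegree_add_eq_left_of_natDegree_lt]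
        · exact natDegree_X_pow p
        · rw [natDegree_X_pow, natDegree_X]
          exact hpp.one_lt
      · exfalso
        apply hsep
        have : CharZero k := CharP.charP_to_charZero k
        have : CharZero K := charZero_of_injective_algebraMap (algebraMap k K).injective
        have : CharZero (IntermediateField.adjoin k {z}) :=
          charZero_of_injective_algebraMap (algebraMap k (IntermediateField.adjoin k {z})).injective
        infer_instance

end Groth.Agent.Curves.K493.SepAlg
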